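import Mathlib

/-!
# Bounds for the order of a group of Lie type by its characteristic part: arithmetic (helper8)

If `d * n = q ^ N * C` with `q = p ^ j`, `p ∤ C`, `p ∤ d` and `C < q ^ M`, then the `p`-part of
`n` is `q ^ N`, and `n < q ^ (N + M)`.
-/

set_option autoImplicit false

namespace Cfsg.Agent.Lib.Helper8.LieBound

/-- both bounds -/
def Good (p n : ℕ) : Prop :=
  n < p ^ (3 * n.factorization p) ∧ n ^ 3 < p ^ (8 * n.factorization p)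

section

variable {p : ℕ} (hp : p.Prime) {j d n N M C : ℕ}

include hp

theorem fact_eq (h : d * n = (p ^ j) ^ N * C) (hC : ¬ p ∣ C) (hd : ¬ p ∣ d) :
    n.factorization p = j * N := by
  have hC0 : C ≠ 0 := fun h0 => hC (h0 ▸ dvd_zero p)
  have hd0 : d ≠ 0 := fun h0 => hd (h0 ▸ dvd_zero p)
  have hq0 : (p ^ j) ^ N ≠ 0 := pow_ne_zero _ (pow_ne_zero _ hp.ne_zero)
  have hn0 : n ≠ 0 := by
    rintro rfl
    rw [mul_zero] at h
    exact (mul_ne_zero hq0 hC0) h.symm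
  have h1 : (d * n).factorization p = ((p ^ j) ^ N * C).factorization p := by rw [h]
  rw [Nat.factorization_mul hd0 hn0, Nat.factorization_mul hq0 hC0, Finsupp.add_apply,
    Finsupp.add_apply, Nat.factorization_eq_zero_of_not_dvd hd,
    Nat.factorization_eq_zero_of_not_dvd hC, ← pow_mul, hp.factorization_pow,
    Finsupp.single_eq_same, zero_add, add_zero] at h1
  exact h1

omit hp in
theorem n_le (h : d * n = (p ^ j) ^ N * C) (hd : ¬ p ∣ d) : n ≤ (p ^ j) ^ N * C := by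
  have hd0 : 0 < d := Nat.pos_of_ne_zero fun h0 => hd (h0 ▸ dvd_zero p)
  calc n = 1 * n := (one_mul n).symm
    _ ≤ d * n := Nat.mul_le_mul_right n hd0
    _ = _ := h

theorem bound1 (h : d * n = (p ^ j) ^ N * C) (hC : ¬ p ∣ C) (hd : ¬ p ∣ d)
    (hCM : C < (p ^ j) ^ M) (h1 : M ≤ 2 * N) : n < p ^ (3 * n.factorization p) := by
  rw [fact_eq hp h hC hd]
  have hq : 1 ≤ p ^ j := Nat.one_le_pow _ _ hp.pos
  have hqN : 0 < (p ^ j) ^ N := Nat.pos_of_ne_zero (pow_ne_zero _ (pow_ne_zero _ hp.ne_zero))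
  calc n ≤ (p ^ j) ^ N * C := n_le h hd
    _ < (p ^ j) ^ N * (p ^ j) ^ M := Nat.mul_lt_mul_of_pos_left hCM hqN
    _ = (p ^ j) ^ (N + M) := (pow_add _ _ _).symm
    _ ≤ (p ^ j) ^ (3 * N) := Nat.pow_le_pow_right hq (by omega)
    _ = p ^ (3 * (j * N)) := by rw [← pow_mul]; congr 1; ring

theorem bound2 (h : d * n = (p ^ j) ^ N * C) (hC : ¬ p ∣ C) (hd : ¬ p ∣ d)
    (hCM : C < (p ^ j) ^ M) (h2 : 3 * M ≤ 5 * N) : n ^ 3 < p ^ (8 * n.factorization p) := by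
  rw [fact_eq hp h hC hd]
  have hq : 1 ≤ p ^ j := Nat.one_le_pow _ _ hp.pos
  have hqN : 0 < (p ^ j) ^ N := Nat.pos_of_ne_zero (pow_ne_zero _ (pow_ne_zero _ hp.ne_zero))
  have h3 : (p ^ j) ^ N * C < (p ^ j) ^ (N + M) := by
    rw [pow_add]
    exact Nat.mul_lt_mul_of_pos_left hCM hqN
  calc n ^ 3 ≤ ((p ^ j) ^ N * C) ^ 3 := Nat.pow_le_pow_left (n_le h hd) 3
    _ < ((p ^ j) ^ (N + M)) ^ 3 := Nat.pow_lt_pow_left h3 (by norm_num)
    _ = (p ^ j) ^ (3 * N + 3 * M) := by rw [← pow_mul]; congr 1; ring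
    _ ≤ (p ^ j) ^ (8 * N) := Nat.pow_le_pow_right hq (by omega)
    _ = p ^ (8 * (j * N)) := by rw [← pow_mul]; congr 1; ring

/-- both bounds -/
theorem good_of (h : d * n = (p ^ j) ^ N * C) (hC : ¬ p ∣ C) (hd : ¬ p ∣ d)
    (hCM : C < (p ^ j) ^ M) (h1 : M ≤ 2 * N) (h2 : 3 * M ≤ 5 * N) : Good p n :=
  ⟨bound1 hp h hC hd hCM h1, bound2 hp h hC hd hCM h2⟩

theorem not_dvd_sub_one (hj : 1 ≤ j) {i : ℕ} (hi : 1 ≤ i) : ¬ p ∣ (p ^ j) ^ i - 1 := by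
  intro h
  have h1 : p ∣ (p ^ j) ^ i := by
    rw [← pow_mul]
    exact dvd_pow_self p (by positivity)
  have h2 : 1 ≤ (p ^ j) ^ i := Nat.one_le_pow _ _ (Nat.one_le_pow _ _ hp.pos)
  have h3 : p ∣ 1 := by
    have := Nat.dvd_sub h1 h
    rwa [Nat.sub_sub_self h2] at this
  exact hp.one_lt.ne' (Nat.dvd_one.1 h3)

theorem not_dvd_add_one (hj : 1 ≤ j) {i : ℕ} (hi : 1 ≤ i) : ¬ p ∣ (p ^ j) ^ i + 1 := by
  intro h
  have h1 : p ∣ (p ^ j) ^ i := by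
    rw [← pow_mul]
    exact dvd_pow_self p (by positivity)
  have h3 : p ∣ 1 := (Nat.dvd_add_right h1).1 h
  exact hp.one_lt.ne' (Nat.dvd_one.1 h3)

omit hp in
theorem not_dvd_of_dvd {a b : ℕ} (hb : ¬ p ∣ b) (hab : a ∣ b) : ¬ p ∣ a :=
  fun h => hb (h.trans hab)

theorem not_dvd_mul {a b : ℕ} (ha : ¬ p ∣ a) (hb : ¬ p ∣ b) : ¬ p ∣ a * b := by
  intro h
  rcases (Nat.Prime.dvd_mul hp).1 h with h | h
  · exact ha h
  · exact hb h

theorem not_dvd_prod {ι : Type*} (s : Finset ι) (f : ι → ℕ) (h : ∀ i ∈ s, ¬ p ∣ f i) :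
    ¬ p ∣ ∏ i ∈ s, f i := by
  intro hd
  obtain ⟨i, hi, hdi⟩ := (Prime.dvd_finsetProd_iff (Nat.Prime.prime hp) f).1 hd
  exact h i hi hdi

end

section ineq

variable {q : ℕ}

theorem sub_one_lt (hq : 1 ≤ q) (i : ℕ) : q ^ i - 1 < q ^ i :=
  Nat.sub_lt (Nat.one_le_pow _ _ hq) Nat.one_pos

theorem sub_one_pos (hq : 2 ≤ q) {i : ℕ} (hi : 1 ≤ i) : 0 < q ^ i - 1 := by
  have : 2 ^ 1 ≤ q ^ i := le_trans (Nat.pow_le_pow_left hq 1) (Nat.pow_le_pow_right (by omega) hi)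
  omega

/-- `(q^a - 1)(q^b + 1) < q^(a+b)` for `a ≤ b` -/
theorem pair_lt (hq : 1 ≤ q) {a b : ℕ} (hab : a ≤ b) : (q ^ a - 1) * (q ^ b + 1) < q ^ (a + b) := by
  have hx : 1 ≤ q ^ a := Nat.one_le_pow _ _ hq
  have hxy : q ^ a ≤ q ^ b := Nat.pow_le_pow_right hq hab
  obtain ⟨x, hx'⟩ : ∃ x, q ^ a = x + 1 := ⟨q ^ a - 1, by omega⟩
  rw [pow_add, hx', Nat.add_sub_cancel]
  rw [hx'] at hxy
  nlinarith

theorem mul_lt_pow {a b i k : ℕ} (ha : a < q ^ i) (hb : b < q ^ k) : a * b < q ^ (i + k) := by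
  rw [pow_add]
  exact Nat.mul_lt_mul'' ha hb

theorem mul_le_pow {a b i k : ℕ} (ha : a ≤ q ^ i) (hb : b ≤ q ^ k) : a * b ≤ q ^ (i + k) := by
  rw [pow_add]
  exact Nat.mul_le_mul ha hb

theorem mul_lt_pow_of_le_lt {a b i k : ℕ} (ha : a ≤ q ^ i) (hb : b < q ^ k) (hq : 1 ≤ q) :
    a * b < q ^ (i + k) := by
  rw [pow_add]
  have h0 : 0 < q ^ i := Nat.one_le_pow _ _ hq
  calc a * b ≤ q ^ i * b := Nat.mul_le_mul_right b ha
    _ < q ^ i * q ^ k := Nat.mul_lt_mul_of_pos_left hb h0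

/-- `∏ (q^(e i) - 1) ≤ q^(∑ e i)` -/
theorem prod_sub_one_le {ι : Type*} (s : Finset ι) (e : ι → ℕ) :
    ∏ i ∈ s, (q ^ e i - 1) ≤ q ^ ∑ i ∈ s, e i := by
  rw [← Finset.prod_pow_eq_pow_sum]
  exact Finset.prod_le_prod' fun i _ => Nat.sub_le _ _

/-- `∏ (q^(e i) - 1) < q^(∑ e i)` over a nonempty set -/
theorem prod_sub_one_lt (hq : 2 ≤ q) {ι : Type*} (s : Finset ι) (hs : s.Nonempty) (e : ι → ℕ)
    (he : ∀ i ∈ s, 1 ≤ e i) : ∏ i ∈ s, (q ^ e i - 1) < q ^ ∑ i ∈ s, e i := by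
  rw [← Finset.prod_pow_eq_pow_sum]
  apply Finset.prod_lt_prod_of_nonempty
  · intro i hi
    exact sub_one_pos hq (he i hi)
  · intro i _
    exact sub_one_lt (by omega) _
  · exact hs

end ineq

end Cfsg.Agent.Lib.Helper8.LieBound
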