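import Cfsg.Agent.Lib.Helper8.LieBound.ExcG2
import Cfsg.Agent.S1063
import Mathlib

/-!
# The bounds for the Chevalley groups of type `E6` (helper8)
-/

set_option autoImplicit false

namespace Cfsg.Agent.Lib.Helper8.LieBound

section

variable {p : ℕ} {F : Type*} [Field F] [Fintype F] [CharP F p]

theorem e6_good : Good p (Nat.card ↥(Cfsg.Lie.chevE6.group F)) := by
  obtain ⟨hp, j, hj, hF⟩ := card_field p F
  have hq2 : 2 ≤ p ^ j := two_le_pow hp hj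
  have hq : 1 ≤ p ^ j := by omega
  have h := Cfsg.Agent.S1063.result hF
  have h' : Nat.gcd 3 (p ^ j - 1) * Nat.card ↥(Cfsg.Lie.chevE6.group F)
      = (p ^ j) ^ 36 * (((p ^ j) ^ 2 - 1) * (((p ^ j) ^ 5 - 1) * (((p ^ j) ^ 6 - 1) * (((p ^ j) ^ 8 - 1) * (((p ^ j) ^ 9 - 1) * ((p ^ j) ^ 12 - 1)))))) := by
    rw [h]
    ring
  refine good_of (M := (2 + (5 + (6 + (8 + (9 + 12)))))) hp h' ?_ (by
    apply not_dvd_of_dvd (b := (p ^ j) ^ 1 - 1) (not_dvd_sub_one hp hj le_rfl)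
    rw [pow_one]
    exact Nat.gcd_dvd_right _ _) ?_ (by norm_num) (by norm_num)
  · exact (not_dvd_mul hp (not_dvd_sub_one hp hj (by norm_num)) (not_dvd_mul hp (not_dvd_sub_one hp hj (by norm_num)) (not_dvd_mul hp (not_dvd_sub_one hp hj (by norm_num)) (not_dvd_mul hp (not_dvd_sub_one hp hj (by norm_num)) (not_dvd_mul hp (not_dvd_sub_one hp hj (by norm_num)) (not_dvd_sub_one hp hj (by norm_num)))))))
  · exact (mul_lt_pow_of_le_lt (Nat.sub_le _ _) (mul_lt_pow_of_le_lt (Nat.sub_le _ _) (mul_lt_pow_of_le_lt (Nat.sub_le _ _) (mul_lt_pow_of_le_lt (Nat.sub_le _ _) (mul_lt_pow_of_le_lt (Nat.sub_le _ _) (sub_one_lt hq _) hq) hq) hq) hq) hq)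

end

end Cfsg.Agent.Lib.Helper8.LieBound
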