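import Cfsg.Agent.Lib.Helper8.LieBound.ExcG2
import Cfsg.Agent.S1064
import Mathlib

/-!
# The bounds for the Chevalley groups of type `E7` (helper8)
-/

set_option autoImplicit false

namespace Cfsg.Agent.Lib.Helper8.LieBound

section

variable {p : ℕ} {F : Type*} [Field F] [Fintype F] [CharP F p]

theorem e7_good : Good p (Nat.card ↥(Cfsg.Lie.chevE7.group F)) := by
  obtain ⟨hp, j, hj, hF⟩ := card_field p F
  have hq2 : 2 ≤ p ^ j := two_le_pow hp hj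
  have hq : 1 ≤ p ^ j := by omega
  have h := Cfsg.Agent.S1064.result hF
  have h' : Nat.gcd 2 (p ^ j - 1) * Nat.card ↥(Cfsg.Lie.chevE7.group F)
      = (p ^ j) ^ 63 * (((p ^ j) ^ 2 - 1) * (((p ^ j) ^ 6 - 1) * (((p ^ j) ^ 8 - 1) * (((p ^ j) ^ 10 - 1) * (((p ^ j) ^ 12 - 1) * (((p ^ j) ^ 14 - 1) * ((p ^ j) ^ 18 - 1))))))) := by
    rw [h]
    ring
  refine good_of (M := (2 + (6 + (8 + (10 + (12 + (14 + 18))))))) hp h' ?_ (by
    apply not_dvd_of_dvd (b := (p ^ j) ^ 1 - 1) (not_dvd_sub_one hp hj le_rfl)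
    rw [pow_one]
    exact Nat.gcd_dvd_right _ _) ?_ (by norm_num) (by norm_num)
  · exact (not_dvd_mul hp (not_dvd_sub_one hp hj (by norm_num)) (not_dvd_mul hp (not_dvd_sub_one hp hj (by norm_num)) (not_dvd_mul hp (not_dvd_sub_one hp hj (by norm_num)) (not_dvd_mul hp (not_dvd_sub_one hp hj (by norm_num)) (not_dvd_mul hp (not_dvd_sub_one hp hj (by norm_num)) (not_dvd_mul hp (not_dvd_sub_one hp hj (by norm_num)) (not_dvd_sub_one hp hj (by norm_num))))))))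
  · exact (mul_lt_pow_of_le_lt (Nat.sub_le _ _) (mul_lt_pow_of_le_lt (Nat.sub_le _ _) (mul_lt_pow_of_le_lt (Nat.sub_le _ _) (mul_lt_pow_of_le_lt (Nat.sub_le _ _) (mul_lt_pow_of_le_lt (Nat.sub_le _ _) (mul_lt_pow_of_le_lt (Nat.sub_le _ _) (sub_one_lt hq _) hq) hq) hq) hq) hq) hq)

end

end Cfsg.Agent.Lib.Helper8.LieBound
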