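import Cfsg.Agent.Lib.Helper8.LieBound.ExcG2
import Cfsg.Agent.S1065
import Mathlib

/-!
# The bounds for the Chevalley groups of type `E8` (helper8)
-/

set_option autoImplicit false

namespace Cfsg.Agent.Lib.Helper8.LieBound

section

variable {p : ℕ} {F : Type*} [Field F] [Fintype F] [CharP F p]

theorem e8_good : Good p (Nat.card ↥(Cfsg.Lie.chevE8.group F)) := by
  obtain ⟨hp, j, hj, hF⟩ := card_field p F
  have hq2 : 2 ≤ p ^ j := two_le_pow hp hj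
  have hq : 1 ≤ p ^ j := by omega
  have h := Cfsg.Agent.S1065.result hF
  have h' : 1 * Nat.card ↥(Cfsg.Lie.chevE8.group F)
      = (p ^ j) ^ 120 * (((p ^ j) ^ 2 - 1) * (((p ^ j) ^ 8 - 1) * (((p ^ j) ^ 12 - 1) * (((p ^ j) ^ 14 - 1) * (((p ^ j) ^ 18 - 1) * (((p ^ j) ^ 20 - 1) * (((p ^ j) ^ 24 - 1) * ((p ^ j) ^ 30 - 1)))))))) := by
    rw [one_mul, h]
    ring
  refine good_of (M := (2 + (8 + (12 + (14 + (18 + (20 + (24 + 30)))))))) hp h' ?_ hp.not_dvd_one ?_ (by norm_num) (by norm_num)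
  · exact (not_dvd_mul hp (not_dvd_sub_one hp hj (by norm_num)) (not_dvd_mul hp (not_dvd_sub_one hp hj (by norm_num)) (not_dvd_mul hp (not_dvd_sub_one hp hj (by norm_num)) (not_dvd_mul hp (not_dvd_sub_one hp hj (by norm_num)) (not_dvd_mul hp (not_dvd_sub_one hp hj (by norm_num)) (not_dvd_mul hp (not_dvd_sub_one hp hj (by norm_num)) (not_dvd_mul hp (not_dvd_sub_one hp hj (by norm_num)) (not_dvd_sub_one hp hj (by norm_num)))))))))
  · exact (mul_lt_pow_of_le_lt (Nat.sub_le _ _) (mul_lt_pow_of_le_lt (Nat.sub_le _ _) (mul_lt_pow_of_le_lt (Nat.sub_le _ _) (mul_lt_pow_of_le_lt (Nat.sub_le _ _) (mul_lt_pow_of_le_lt (Nat.sub_le _ _) (mul_lt_pow_of_le_lt (Nat.sub_le _ _) (mul_lt_pow_of_le_lt (Nat.sub_le _ _) (sub_one_lt hq _) hq) hq) hq) hq) hq) hq) hq)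

end

end Cfsg.Agent.Lib.Helper8.LieBound
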