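import Cfsg.Agent.Lib.Helper8.LieBound.Linear
import Cfsg.Agent.S1059
import Mathlib

/-!
# The bounds for the Chevalley groups of type `G₂` (helper8)
-/

set_option autoImplicit false

namespace Cfsg.Agent.Lib.Helper8.LieBound

theorem add_one_le {q : ℕ} (hq : 2 ≤ q) (i : ℕ) : q ^ i + 1 ≤ q ^ (i + 1) := by
  have h1 : 1 ≤ q ^ i := Nat.one_le_pow _ _ (by omega)
  rw [pow_succ]
  nlinarith

/-- a number a power of which is a power of a prime is a power of this prime -/
theorem pow_of_pow {p q k e : ℕ} (hp : p.Prime) (hk : 1 ≤ k) (h : q ^ k = p ^ e) (he : 1 ≤ e) :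
    ∃ j, 1 ≤ j ∧ q = p ^ j := by
  have hd : q ∣ p ^ e := by
    rw [← h]
    exact dvd_pow_self q (by omega)
  obtain ⟨j, -, rfl⟩ := (Nat.dvd_prime_pow hp).1 hd
  refine ⟨j, ?_, rfl⟩
  by_contra hj
  have hj0 : j = 0 := by omega
  rw [hj0, pow_zero, one_pow] at h
  have : 2 ≤ p ^ e := two_le_pow hp he
  omega

section

variable {p : ℕ} {F : Type*} [Field F] [Fintype F] [CharP F p]

theorem g2_good : Good p (Nat.card ↥(Cfsg.Lie.chevG2.group F)) := by
  obtain ⟨hp, j, hj, hF⟩ := card_field p F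
  have hq : 1 ≤ p ^ j := by have := two_le_pow hp hj; omega
  have h := Cfsg.Agent.S1059.result hF
  have h' : 1 * Nat.card ↥(Cfsg.Lie.chevG2.group F)
      = (p ^ j) ^ 6 * (((p ^ j) ^ 2 - 1) * ((p ^ j) ^ 6 - 1)) := by
    rw [one_mul, h, mul_assoc]
  refine good_of (M := 2 + 6) hp h' ?_ hp.not_dvd_one ?_ (by norm_num) (by norm_num)
  · exact not_dvd_mul hp (not_dvd_sub_one hp hj (by norm_num)) (not_dvd_sub_one hp hj (by norm_num))
  · exact mul_lt_pow (sub_one_lt hq _) (sub_one_lt hq _)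

end

end Cfsg.Agent.Lib.Helper8.LieBound
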