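import Cfsg.Agent.Lib.Helper8.LieBound.Basic
import Cfsg.Agent.S0243
import Mathlib

/-!
# The bounds for the projective special linear groups (helper8)
-/

set_option autoImplicit false

namespace Cfsg.Agent.Lib.Helper8.LieBound

open Finset

/-- a finite field of characteristic `p` has `p ^ j` elements -/
theorem card_field (p : ℕ) (F : Type*) [Field F] [Fintype F] [CharP F p] :
    p.Prime ∧ ∃ j, 1 ≤ j ∧ Fintype.card F = p ^ j := by
  obtain ⟨n, hp, h⟩ := FiniteField.card F p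
  exact ⟨hp, n, n.pos, h⟩

theorem two_le_pow {p j : ℕ} (hp : p.Prime) (hj : 1 ≤ j) : 2 ≤ p ^ j :=
  le_trans hp.two_le (Nat.le_self_pow (by omega) p)

/-- the product in the order formula of the general linear group -/
theorem prod_gl (q n : ℕ) :
    ∏ i ∈ range n, (q ^ n - q ^ i) = q ^ (∑ i ∈ range n, i) * ∏ k ∈ range n, (q ^ (k + 1) - 1) := by
  have h1 : ∀ i ∈ range n, q ^ n - q ^ i = q ^ i * (q ^ (n - 1 - i + 1) - 1) := by
    intro i hi
    rw [mem_range] at hi
    rw [Nat.mul_sub, mul_one, ← pow_add]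
    congr 2
    omega
  rw [prod_congr rfl h1, prod_mul_distrib, prod_pow_eq_pow_sum]
  congr 1
  exact prod_range_reflect (fun k => q ^ (k + 1) - 1) n

theorem psl_eq {F : Type*} [Field F] [Fintype F] {q : ℕ} (hF : Fintype.card F = q) (hq : 2 ≤ q)
    (n' : ℕ) (hn : 1 ≤ n') :
    Nat.gcd (n' + 1) (q - 1) * Nat.card (Matrix.ProjectiveSpecialLinearGroup (Fin (n' + 1)) F)
      = q ^ (∑ i ∈ range (n' + 1), i) * ∏ k ∈ range n', (q ^ (k + 2) - 1) := by
  have h := Cfsg.Agent.S0243.result hF (n' + 1) (by omega)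
  rw [Fin.prod_univ_eq_prod_range (fun i => q ^ (n' + 1) - q ^ i) (n' + 1), prod_gl q _,
    prod_range_succ' (fun k => q ^ (k + 1) - 1) n'] at h
  have hq1 : 0 < q - 1 := by omega
  have h2 : (q - 1) * (Nat.gcd (n' + 1) (q - 1) *
      Nat.card (Matrix.ProjectiveSpecialLinearGroup (Fin (n' + 1)) F))
      = (q - 1) * (q ^ (∑ i ∈ range (n' + 1), i) * ∏ k ∈ range n', (q ^ (k + 2) - 1)) := by
    have e : q ^ (0 + 1) - 1 = q - 1 := by rw [zero_add, pow_one]
    rw [e] at h
    calc (q - 1) * (Nat.gcd (n' + 1) (q - 1) *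
          Nat.card (Matrix.ProjectiveSpecialLinearGroup (Fin (n' + 1)) F))
        = Nat.gcd (n' + 1) (q - 1) * ((q - 1) *
          Nat.card (Matrix.ProjectiveSpecialLinearGroup (Fin (n' + 1)) F)) := by ring
      _ = _ := by rw [h]; ring
  exact Nat.eq_of_mul_eq_mul_left hq1 h2

section

variable {p : ℕ} {F : Type*} [Field F] [Fintype F] [CharP F p]

/-- the data of the order of `PSL_n` -/
theorem psl_data (n' : ℕ) (hn : 1 ≤ n') : ∃ j d C : ℕ, 1 ≤ j ∧ Fintype.card F = p ^ j ∧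
    d * Nat.card (Matrix.ProjectiveSpecialLinearGroup (Fin (n' + 1)) F)
      = (p ^ j) ^ ((∑ i ∈ range n', i) + n') * C ∧ ¬ p ∣ C ∧ ¬ p ∣ d ∧
    C < (p ^ j) ^ ((∑ i ∈ range n', i) + 2 * n') := by
  obtain ⟨hp, j, hj, hF⟩ := card_field p F
  have hq : 2 ≤ p ^ j := two_le_pow hp hj
  refine ⟨j, Nat.gcd (n' + 1) (p ^ j - 1), ∏ k ∈ range n', ((p ^ j) ^ (k + 2) - 1), hj, hF, ?_, ?_, ?_,
    ?_⟩
  · rw [psl_eq hF hq n' hn, sum_range_succ]
  · apply not_dvd_prod hp
    intro k _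
    exact not_dvd_sub_one hp hj (by omega)
  · apply not_dvd_of_dvd (b := (p ^ j) ^ 1 - 1) (not_dvd_sub_one hp hj le_rfl)
    rw [pow_one]
    exact Nat.gcd_dvd_right _ _
  · have h1 := prod_sub_one_lt hq (range n') (by rw [nonempty_range_iff]; omega) (fun k => k + 2)
      (fun k _ => by omega)
    have e : ∑ k ∈ range n', (k + 2) = (∑ i ∈ range n', i) + 2 * n' := by
      rw [sum_add_distrib, sum_const, card_range, smul_eq_mul, mul_comm]
    rw [e] at h1
    exact h1

/-- the first bound for `PSL_n`, `n ≥ 2` -/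
theorem psl_bound1 (n : ℕ) (hn : 2 ≤ n) :
    Nat.card (Matrix.ProjectiveSpecialLinearGroup (Fin n) F)
      < p ^ (3 * (Nat.card (Matrix.ProjectiveSpecialLinearGroup (Fin n) F)).factorization p) := by
  obtain ⟨n', rfl⟩ : ∃ n', n = n' + 1 := ⟨n - 1, by omega⟩
  obtain ⟨j, d, C, hj, hF, h, hC, hd, hlt⟩ := psl_data (p := p) (F := F) n' (by omega)
  have hp := (card_field p F).1
  exact bound1 hp h hC hd hlt (by omega)

/-- the second bound for `PSL_n`, `n ≥ 3` -/
theorem psl_bound2 (n : ℕ) (hn : 3 ≤ n) :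
    Nat.card (Matrix.ProjectiveSpecialLinearGroup (Fin n) F) ^ 3
      < p ^ (8 * (Nat.card (Matrix.ProjectiveSpecialLinearGroup (Fin n) F)).factorization p) := by
  obtain ⟨n', rfl⟩ : ∃ n', n = n' + 1 := ⟨n - 1, by omega⟩
  obtain ⟨j, d, C, hj, hF, h, hC, hd, hlt⟩ := psl_data (p := p) (F := F) n' (by omega)
  have hp := (card_field p F).1
  refine bound2 hp h hC hd hlt ?_
  have h2 := Finset.sum_range_id_mul_two n'
  have h3 : n' ≤ n' * (n' - 1) := by
    have h4 : 1 ≤ n' - 1 := by omega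
    calc n' = n' * 1 := (mul_one n').symm
      _ ≤ n' * (n' - 1) := Nat.mul_le_mul_left n' h4
  omega

/-- the `p`-part of `PSL_2` is the order of the field -/
theorem psl2_fact :
    p ^ (Nat.card (Matrix.ProjectiveSpecialLinearGroup (Fin 2) F)).factorization p
      = Fintype.card F := by
  obtain ⟨j, d, C, hj, hF, h, hC, hd, hlt⟩ := psl_data (p := p) (F := F) 1 le_rfl
  have hp := (card_field p F).1
  rw [fact_eq hp h hC hd, hF]
  simp

end

end Cfsg.Agent.Lib.Helper8.LieBound
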