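import Cfsg.Agent.Lib.Helper8.LieBound.Symp
import Cfsg.Agent.Lib.Helper8.LieBound.ExcG2
import Cfsg.Agent.S0292
import Cfsg.Agent.S0293
import Cfsg.Agent.S0294
import Mathlib

/-!
# The bounds for the orthogonal groups (helper8)
-/

set_option autoImplicit false

namespace Cfsg.Agent.Lib.Helper8.LieBound

open Finset

section

variable {p : ℕ} {F : Type*} [Field F] [Fintype F] [CharP F p]

theorem pomega_odd_good (m : ℕ) (hm : 3 ≤ m) (hodd : Odd (Fintype.card F)) :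
    Good p (Nat.card (Cfsg.POmega F (Cfsg.quadFormOdd m F))) := by
  obtain ⟨hp, j, hj, hF⟩ := card_field p F
  have hq : 2 ≤ p ^ j := two_le_pow hp hj
  have hodd' : Odd (p ^ j) := hF ▸ hodd
  have h := Cfsg.Agent.S0292.result hF hodd' m hm
  have hd : ¬ p ∣ 2 := by
    intro h2
    have hp2 : p = 2 := (Nat.prime_dvd_prime_iff_eq hp Nat.prime_two).1 h2
    rw [hp2] at hodd'
    exact (Nat.not_even_iff_odd.2 hodd') ((Nat.even_pow' (by omega)).2 even_two)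
  refine good_of hp h (sympC_not_dvd hp hj m) hd (sympC_lt hq m (by omega)) ?_ ?_
  · nlinarith
  · nlinarith

theorem pomega_plus_good (m : ℕ) (hm : 4 ≤ m) :
    Good p (Nat.card (Cfsg.POmega F (Cfsg.quadFormPlus m F))) := by
  obtain ⟨hp, j, hj, hF⟩ := card_field p F
  have hq2 : 2 ≤ p ^ j := two_le_pow hp hj
  have hq : 1 ≤ p ^ j := by omega
  have h := Cfsg.Agent.S0293.result hF m hm
  obtain ⟨k, rfl⟩ : ∃ k, m = k + 1 := ⟨m - 1, by omega⟩
  rw [Nat.add_sub_cancel] at h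
  have h' : Nat.gcd 4 ((p ^ j) ^ (k + 1) - 1) *
      Nat.card (Cfsg.POmega F (Cfsg.quadFormPlus (k + 1) F))
      = (p ^ j) ^ ((k + 1) * k) * (((p ^ j) ^ (k + 1) - 1) * sympC (p ^ j) k) := by
    rw [h, mul_assoc]
    rfl
  have hd : ¬ p ∣ Nat.gcd 4 ((p ^ j) ^ (k + 1) - 1) :=
    not_dvd_of_dvd (not_dvd_sub_one hp hj (by omega)) (Nat.gcd_dvd_right _ _)
  refine good_of (M := (k + 1) + (k ^ 2 + k)) hp h' ?_ hd ?_ ?_ ?_
  · exact not_dvd_mul hp (not_dvd_sub_one hp hj (by omega)) (sympC_not_dvd hp hj k)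
  · exact mul_lt_pow_of_le_lt (Nat.sub_le _ _) (sympC_lt hq2 k (by omega)) hq
  · nlinarith
  · nlinarith

theorem pomega_minus_good (m : ℕ) (hm : 4 ≤ m) (a b : F)
    (hab : ∀ z₁ z₂ : F, z₁ ^ 2 + a * z₁ * z₂ + b * z₂ ^ 2 = 0 → z₁ = 0 ∧ z₂ = 0) :
    Good p (Nat.card (Cfsg.POmega F (Cfsg.quadFormMinus (m - 1) F a b))) := by
  obtain ⟨hp, j, hj, hF⟩ := card_field p F
  have hq2 : 2 ≤ p ^ j := two_le_pow hp hj
  have hq : 1 ≤ p ^ j := by omega
  have h := Cfsg.Agent.S0294.result hF m hm a b hab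
  obtain ⟨k, rfl⟩ : ∃ k, m = k + 1 := ⟨m - 1, by omega⟩
  rw [Nat.add_sub_cancel] at h ⊢
  have h' : Nat.gcd 4 ((p ^ j) ^ (k + 1) + 1) *
      Nat.card (Cfsg.POmega F (Cfsg.quadFormMinus k F a b))
      = (p ^ j) ^ ((k + 1) * k) * (((p ^ j) ^ (k + 1) + 1) * sympC (p ^ j) k) := by
    rw [h, mul_assoc]
    rfl
  have hd : ¬ p ∣ Nat.gcd 4 ((p ^ j) ^ (k + 1) + 1) :=
    not_dvd_of_dvd (not_dvd_add_one hp hj (by omega)) (Nat.gcd_dvd_right _ _)
  refine good_of (M := (k + 1 + 1) + (k ^ 2 + k)) hp h' ?_ hd ?_ ?_ ?_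
  · exact not_dvd_mul hp (not_dvd_add_one hp hj (by omega)) (sympC_not_dvd hp hj k)
  · exact mul_lt_pow_of_le_lt (add_one_le hq2 _) (sympC_lt hq2 k (by omega)) hq
  · nlinarith
  · nlinarith

end

end Cfsg.Agent.Lib.Helper8.LieBound
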