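import Cfsg.Agent.Lib.Helper8.LieBound.ExcG2
import Cfsg.Agent.Lib.Helper8.F4T.Order
import Mathlib

/-!
# The bounds for the large Ree groups (helper8)
-/

set_option autoImplicit false

namespace Cfsg.Agent.Lib.Helper8.LieBound

section

variable {K : Type*} [Field K] [Fintype K]

theorem ree2F4_good (m : ℕ) (hK : Fintype.card K = 2 ^ (2 * m + 1)) :
    Good 2 (Nat.card ↥(Cfsg.Lie.twistedF4 K (2 ^ m))) := by
  have := Cfsg.Agent.Lib.Helper8.F4T.charP2 hK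
  have hp : Nat.Prime 2 := by norm_num
  have hj : 1 ≤ 2 * m + 1 := by omega
  have hq2 : 2 ≤ 2 ^ (2 * m + 1) := two_le_pow hp hj
  have hq : 1 ≤ 2 ^ (2 * m + 1) := by omega
  have h := Cfsg.Agent.Lib.Helper8.F4T.card_twisted hK
  have h' : 1 * Nat.card ↥(Cfsg.Lie.twistedF4 K (2 ^ m))
      = (2 ^ (2 * m + 1)) ^ 12 * (((2 ^ (2 * m + 1)) ^ 3 + 1) * (((2 ^ (2 * m + 1)) ^ 6 + 1) *
        (((2 ^ (2 * m + 1)) ^ 4 - 1) * ((2 ^ (2 * m + 1)) ^ 1 - 1)))) := by
    rw [one_mul, h, pow_one]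
    ring
  refine good_of (M := 4 + (7 + (4 + 1))) hp h' ?_ hp.not_dvd_one ?_ (by norm_num) (by norm_num)
  · exact not_dvd_mul hp (not_dvd_add_one hp hj (by norm_num))
      (not_dvd_mul hp (not_dvd_add_one hp hj (by norm_num))
      (not_dvd_mul hp (not_dvd_sub_one hp hj (by norm_num))
      (not_dvd_sub_one hp hj (by norm_num))))
  · exact mul_lt_pow_of_le_lt (add_one_le hq2 3) (mul_lt_pow_of_le_lt (add_one_le hq2 6)
      (mul_lt_pow_of_le_lt (Nat.sub_le _ _) (sub_one_lt hq _) hq) hq) hq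

end

end Cfsg.Agent.Lib.Helper8.LieBound
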