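import Cfsg.Agent.Lib.Helper8.LieBound.Linear
import Cfsg.Agent.S0245
import Cfsg.Agent.S0246
import Mathlib

/-!
# The bounds for the projective symplectic groups (helper8)
-/

set_option autoImplicit false

namespace Cfsg.Agent.Lib.Helper8.LieBound

open Finset

/-- the product `∏_{i=1}^{m} (q^(2i) - 1)` -/
def sympC (q m : ℕ) : ℕ := ∏ i ∈ range m, (q ^ (2 * (i + 1)) - 1)

theorem sum_two_mul_succ (m : ℕ) : ∑ i ∈ range m, (2 * (i + 1)) = m ^ 2 + m := by
  induction m with
  | zero => rfl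
  | succ m ih =>
    rw [sum_range_succ, ih]
    ring

theorem sympC_le {q : ℕ} (m : ℕ) : sympC q m ≤ q ^ (m ^ 2 + m) := by
  have := prod_sub_one_le (q := q) (range m) (fun i => 2 * (i + 1))
  rw [sum_two_mul_succ] at this
  exact this

theorem sympC_lt {q : ℕ} (hq : 2 ≤ q) (m : ℕ) (hm : 1 ≤ m) : sympC q m < q ^ (m ^ 2 + m) := by
  have := prod_sub_one_lt hq (range m) (by rw [nonempty_range_iff]; omega) (fun i => 2 * (i + 1))
    (fun i _ => by omega)
  rw [sum_two_mul_succ] at this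
  exact this

theorem sympC_not_dvd {p j : ℕ} (hp : p.Prime) (hj : 1 ≤ j) (m : ℕ) : ¬ p ∣ sympC (p ^ j) m := by
  apply not_dvd_prod hp
  intro i _
  exact not_dvd_sub_one hp hj (by omega)

theorem psp_eq {F : Type*} [Field F] [Fintype F] {q : ℕ} (hF : Fintype.card F = q) (m : ℕ)
    (hm : 1 ≤ m) :
    Nat.gcd 2 (q - 1) * Nat.card (Cfsg.PSp m F) = q ^ (m ^ 2) * sympC q m := by
  have h1 := Cfsg.Agent.S0245.result hF m
  have h2 := Cfsg.Agent.S0246.result hF m hm
  have h3 := Subgroup.card_eq_card_quotient_mul_card_subgroup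
    (Subgroup.center (Matrix.symplecticGroup (Fin m) F))
  unfold sympC
  rw [← h1, h3, h2, mul_comm]

section

variable {p : ℕ} {F : Type*} [Field F] [Fintype F] [CharP F p]

theorem psp_good (m : ℕ) (hm : 2 ≤ m) : Good p (Nat.card (Cfsg.PSp m F)) := by
  obtain ⟨hp, j, hj, hF⟩ := card_field p F
  have hq : 2 ≤ p ^ j := two_le_pow hp hj
  have h := psp_eq hF m (by omega)
  have hd : ¬ p ∣ Nat.gcd 2 (p ^ j - 1) := by
    apply not_dvd_of_dvd (b := (p ^ j) ^ 1 - 1) (not_dvd_sub_one hp hj le_rfl)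
    rw [pow_one]
    exact Nat.gcd_dvd_right _ _
  refine good_of hp h (sympC_not_dvd hp hj m) hd (sympC_lt hq m (by omega)) ?_ ?_
  · nlinarith
  · nlinarith

end

end Cfsg.Agent.Lib.Helper8.LieBound
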