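import Cfsg.Agent.Lib.Helper8.LieBound.ExcG2
import Cfsg.Agent.Lib.Helper5.SuzukiBridge
import Cfsg.Agent.S0324
import Mathlib

/-!
# The bounds for the Suzuki groups (helper8)
-/

set_option autoImplicit false

namespace Cfsg.Agent.Lib.Helper8.LieBound

section

variable {F : Type*} [Field F] [Fintype F]

theorem sz_good (m : ℕ) (hm : 1 ≤ m) (hF : Fintype.card F = 2 ^ (2 * m + 1)) :
    Good 2 (Nat.card ↥(Cfsg.Lie.Sz F (2 ^ (m + 1)))) := by
  have hp : Nat.Prime 2 := by norm_num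
  have hj : 1 ≤ 2 * m + 1 := by omega
  have hq2 : 2 ≤ 2 ^ (2 * m + 1) := two_le_pow hp hj
  have hq : 1 ≤ 2 ^ (2 * m + 1) := by omega
  have e := Nat.card_congr (Cfsg.Agent.Lib.Helper5.SuzukiBridge.lieSzEquiv hm hF).toEquiv
  have h := Cfsg.Agent.S0324.result hm hF
  rw [e]
  have h' : 1 * Nat.card ↥(Cfsg.Sz F m)
      = (2 ^ (2 * m + 1)) ^ 2 * (((2 ^ (2 * m + 1)) ^ 1 - 1) * ((2 ^ (2 * m + 1)) ^ 2 + 1)) := by
    rw [one_mul, h, pow_one]
    ring
  refine good_of (M := 1 + 2) hp h' ?_ hp.not_dvd_one ?_ (by norm_num) (by norm_num)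
  · exact not_dvd_mul hp (not_dvd_sub_one hp hj (by norm_num))
      (not_dvd_add_one hp hj (by norm_num))
  · exact pair_lt hq (by norm_num)

end

end Cfsg.Agent.Lib.Helper8.LieBound
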