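import Cfsg.Agent.Lib.Helper8.LieBound.ExcG2
import Cfsg.Agent.S1066
import Mathlib

/-!
# The bounds for the twisted groups of type `²E₆` (helper8)
-/

set_option autoImplicit false

namespace Cfsg.Agent.Lib.Helper8.LieBound

section

variable {p : ℕ} {K : Type*} [Field K] [Fintype K] [CharP K p]

theorem twE6_good (q : ℕ) (hq' : IsPrimePow q) (hK : Fintype.card K = q ^ 2) :
    Good p (Nat.card ↥(Cfsg.Lie.twistedE6 K q)) := by
  obtain ⟨hp, e, he, hK'⟩ := card_field p K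
  obtain ⟨j, hj, rfl⟩ := pow_of_pow hp (by norm_num : 1 ≤ 2) (hK.symm.trans hK') he
  have hq2 : 2 ≤ p ^ j := two_le_pow hp hj
  have hq : 1 ≤ p ^ j := by omega
  have h := Cfsg.Agent.S1066.result hq' hK
  have h' : Nat.gcd 3 (p ^ j + 1) * Nat.card ↥(Cfsg.Lie.twistedE6 K (p ^ j))
      = (p ^ j) ^ 36 * (((p ^ j) ^ 2 - 1) * (((p ^ j) ^ 5 + 1) * (((p ^ j) ^ 6 - 1) *
        (((p ^ j) ^ 8 - 1) * (((p ^ j) ^ 9 + 1) * ((p ^ j) ^ 12 - 1)))))) := by
    rw [h]
    ring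
  refine good_of (M := 2 + (6 + (6 + (8 + (10 + 12))))) hp h' ?_ (by
    apply not_dvd_of_dvd (b := (p ^ j) ^ 1 + 1) (not_dvd_add_one hp hj le_rfl)
    rw [pow_one]
    exact Nat.gcd_dvd_right _ _) ?_ (by norm_num) (by norm_num)
  · exact not_dvd_mul hp (not_dvd_sub_one hp hj (by norm_num))
      (not_dvd_mul hp (not_dvd_add_one hp hj (by norm_num))
      (not_dvd_mul hp (not_dvd_sub_one hp hj (by norm_num))
      (not_dvd_mul hp (not_dvd_sub_one hp hj (by norm_num))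
      (not_dvd_mul hp (not_dvd_add_one hp hj (by norm_num))
      (not_dvd_sub_one hp hj (by norm_num))))))
  · exact mul_lt_pow_of_le_lt (Nat.sub_le _ _) (mul_lt_pow_of_le_lt (add_one_le hq2 5)
      (mul_lt_pow_of_le_lt (Nat.sub_le _ _) (mul_lt_pow_of_le_lt (Nat.sub_le _ _)
      (mul_lt_pow_of_le_lt (add_one_le hq2 9) (sub_one_lt hq _) hq) hq) hq) hq) hq

end

end Cfsg.Agent.Lib.Helper8.LieBound
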