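import Cfsg.Agent.Lib.Helper8.LieBound.Linear
import Cfsg.Agent.S0280
import Mathlib

/-!
# The bounds for the projective special unitary groups (helper8)
-/

set_option autoImplicit false

namespace Cfsg.Agent.Lib.Helper8.LieBound

open Finset

/-- the factors of the order of the unitary group -/
def uT (q i : ℕ) : ℕ := if Even i then q ^ (i + 1) + 1 else q ^ (i + 1) - 1

/-- the product of the factors from the second on -/
def uC (q k : ℕ) : ℕ := ∏ i ∈ range k, uT q (i + 1)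

/-- the sum of the exponents -/
def uE (k : ℕ) : ℕ := ∑ i ∈ range k, (i + 2)

theorem uE_succ (k : ℕ) : uE (k + 1) = uE k + (k + 2) := sum_range_succ _ _

theorem uC_succ (q k : ℕ) : uC q (k + 1) = uC q k * uT q (k + 1) := prod_range_succ _ _

theorem uT_odd (q r : ℕ) : uT q (2 * r + 1) = q ^ (2 * r + 2) - 1 := by
  unfold uT
  rw [if_neg (by simp)]

theorem uT_even (q r : ℕ) : uT q (2 * r + 2) = q ^ (2 * r + 3) + 1 := by
  unfold uT
  rw [if_pos (by simp [Nat.even_add])]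

theorem uC_bounds {q : ℕ} (hq : 1 ≤ q) (r : ℕ) :
    uC q (2 * r) ≤ q ^ uE (2 * r) ∧ uC q (2 * r + 1) < q ^ uE (2 * r + 1) ∧
      uC q (2 * r + 2) < q ^ uE (2 * r + 2) := by
  induction r with
  | zero =>
    refine ⟨le_rfl, ?_, ?_⟩
    · show uC q 1 < q ^ uE 1
      rw [uC_succ, uE_succ]
      show 1 * uT q (2 * 0 + 1) < q ^ (0 + (0 + 2))
      rw [uT_odd, one_mul]
      exact sub_one_lt hq _
    · show uC q (1 + 1) < q ^ uE (1 + 1)
      rw [uC_succ, uC_succ, uE_succ, uE_succ]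
      show 1 * uT q (2 * 0 + 1) * uT q (2 * 0 + 2) < q ^ (0 + (0 + 2) + (1 + 2))
      rw [uT_odd, uT_even, one_mul]
      exact pair_lt hq (by omega)
  | succ r ih =>
    have h0 : uC q (2 * (r + 1)) ≤ q ^ uE (2 * (r + 1)) := ih.2.2.le
    have e1 : 2 * (r + 1) + 1 = 2 * (r + 1) + 1 := rfl
    refine ⟨h0, ?_, ?_⟩
    · rw [uC_succ, uE_succ, uT_odd]
      exact mul_lt_pow_of_le_lt h0 (sub_one_lt hq _) hq
    · have e2 : 2 * (r + 1) + 2 = (2 * (r + 1) + 1) + 1 := rfl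
      rw [e2, uC_succ, uC_succ, uE_succ, uE_succ, uT_odd]
      have e3 : 2 * (r + 1) + 1 + 1 = 2 * (r + 1) + 2 := rfl
      rw [e3, uT_even, mul_assoc, add_assoc]
      refine mul_lt_pow_of_le_lt h0 ?_ hq
      have := pair_lt hq (a := 2 * (r + 1) + 2) (b := 2 * (r + 1) + 3) (by omega)
      have e4 : 2 * (r + 1) + 2 + (2 * (r + 1) + 3) = 2 * (r + 1) + 2 + (2 * (r + 1) + 1 + 2) := by
        omega
      rw [e4] at this
      exact this

theorem uC_lt {q : ℕ} (hq : 1 ≤ q) (k : ℕ) (hk : 1 ≤ k) : uC q k < q ^ uE k := by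
  rcases Nat.even_or_odd' k with ⟨r, rfl | rfl⟩
  · obtain ⟨r', rfl⟩ : ∃ r', r = r' + 1 := ⟨r - 1, by omega⟩
    exact (uC_bounds hq r').2.2
  · exact (uC_bounds hq r).2.1

theorem uE_eq (k : ℕ) : uE k = (∑ i ∈ range k, i) + 2 * k := by
  unfold uE
  rw [sum_add_distrib, sum_const, card_range, smul_eq_mul, mul_comm]

theorem uC_not_dvd {p j : ℕ} (hp : p.Prime) (hj : 1 ≤ j) (k : ℕ) : ¬ p ∣ uC (p ^ j) k := by
  apply not_dvd_prod hp
  intro i _
  unfold uT
  split_ifs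
  · exact not_dvd_add_one hp hj (by omega)
  · exact not_dvd_sub_one hp hj (by omega)

theorem psu_eq {F : Type*} [Field F] [Fintype F] {q : ℕ} (hF : Fintype.card F = q ^ 2)
    (n' : ℕ) (hn : 1 ≤ n') :
    Nat.gcd (n' + 1) (q + 1) * Nat.card (Cfsg.PSU (n' + 1) F q)
      = q ^ (∑ i ∈ range (n' + 1), i) * uC q n' := by
  have h := Cfsg.Agent.S0280.result hF (n' + 1) (by omega)
  rw [prod_range_succ' _ n', ← Finset.sum_range_id] at h
  have e0 : (if Even 0 then q ^ (0 + 1) + 1 else q ^ (0 + 1) - 1) = q + 1 := by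
    rw [if_pos (by simp), zero_add, pow_one]
  rw [e0] at h
  have hq1 : 0 < q + 1 := by omega
  apply Nat.eq_of_mul_eq_mul_left hq1
  have e1 : ∏ k ∈ range n', (if Even (k + 1) then q ^ (k + 1 + 1) + 1 else q ^ (k + 1 + 1) - 1)
      = uC q n' := rfl
  rw [e1] at h
  calc (q + 1) * (Nat.gcd (n' + 1) (q + 1) * Nat.card (Cfsg.PSU (n' + 1) F q))
      = Nat.gcd (n' + 1) (q + 1) * ((q + 1) * Nat.card (Cfsg.PSU (n' + 1) F q)) := by ring
    _ = _ := by rw [h]; ring

/-- a number whose square is a power of a prime is a power of this prime -/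
theorem pow_of_sq {p q e : ℕ} (hp : p.Prime) (h : q ^ 2 = p ^ e) (he : 1 ≤ e) :
    ∃ j, 1 ≤ j ∧ q = p ^ j := by
  have hd : q ∣ p ^ e := by
    rw [← h]
    exact dvd_pow_self q (by norm_num)
  obtain ⟨j, -, rfl⟩ := (Nat.dvd_prime_pow hp).1 hd
  refine ⟨j, ?_, rfl⟩
  by_contra hj
  have hj0 : j = 0 := by omega
  rw [hj0, pow_zero, one_pow] at h
  have : 2 ≤ p ^ e := two_le_pow hp he
  omega

section

variable {p : ℕ} {F : Type*} [Field F] [Fintype F] [CharP F p]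

theorem psu_good (n q : ℕ) (hF : Fintype.card F = q ^ 2) (hn : 3 ≤ n) :
    Good p (Nat.card (Cfsg.PSU n F q)) := by
  obtain ⟨hp, e, he, hF'⟩ := card_field p F
  obtain ⟨j, hj, rfl⟩ := pow_of_sq hp (hF.symm.trans hF') he
  have hq : 2 ≤ p ^ j := two_le_pow hp hj
  obtain ⟨n', rfl⟩ : ∃ n', n = n' + 1 := ⟨n - 1, by omega⟩
  have h := psu_eq hF n' (by omega)
  rw [sum_range_succ] at h
  have hd : ¬ p ∣ Nat.gcd (n' + 1) (p ^ j + 1) := by
    apply not_dvd_of_dvd (b := (p ^ j) ^ 1 + 1) (not_dvd_add_one hp hj le_rfl)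
    rw [pow_one]
    exact Nat.gcd_dvd_right _ _
  have hlt := uC_lt (q := p ^ j) (by omega) n' (by omega)
  rw [uE_eq] at hlt
  have h2 := Finset.sum_range_id_mul_two n'
  have h3 : n' ≤ n' * (n' - 1) := by
    have h4 : 1 ≤ n' - 1 := by omega
    calc n' = n' * 1 := (mul_one n').symm
      _ ≤ n' * (n' - 1) := Nat.mul_le_mul_left n' h4
  refine good_of hp h (uC_not_dvd hp hj n') hd hlt ?_ ?_
  · omega
  · omega

end

end Cfsg.Agent.Lib.Helper8.LieBound
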