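import Cfsg.Agent.Lib.Helper8.LieBound.Linear
import Cfsg.Agent.Lib.Helper8.LieBound.Symp
import Cfsg.Agent.Lib.Helper8.LieBound.Unitary
import Cfsg.Agent.Lib.Helper8.LieBound.Orth
import Cfsg.Agent.Lib.Helper8.LieBound.ExcG2
import Cfsg.Agent.Lib.Helper8.LieBound.ExcF4
import Cfsg.Agent.Lib.Helper8.LieBound.ExcE6
import Cfsg.Agent.Lib.Helper8.LieBound.ExcE7
import Cfsg.Agent.Lib.Helper8.LieBound.ExcE8
import Cfsg.Agent.Lib.Helper8.LieBound.TwE6
import Cfsg.Agent.Lib.Helper8.LieBound.TwD4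
import Cfsg.Agent.Lib.Helper8.LieBound.ReeG2
import Cfsg.Agent.Lib.Helper8.LieBound.Ree2F4
import Cfsg.Agent.Lib.Helper8.LieBound.SzB
import Cfsg.Prelude.Def_LieTypeChar
import Mathlib

/-!
# The order of a group of Lie type is bounded by a power of its characteristic part (helper8)
-/

set_option autoImplicit false

namespace Cfsg.Agent.Lib.Helper8.LieBound

/-- the statement for a group -/
def Bound (p : ℕ) (G : Type*) [Group G] : Prop :=
  Nat.card G < p ^ (3 * (Nat.card G).factorization p) ∧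
    ((¬ ∃ (F : Type) (_ : Field F) (_ : Fintype F),
        Fintype.card F = p ^ (Nat.card G).factorization p ∧
        Nonempty (G ≃* Matrix.ProjectiveSpecialLinearGroup (Fin 2) F)) →
      Nat.card G ^ 3 < p ^ (8 * (Nat.card G).factorization p))

theorem bound_of_good {p : ℕ} {G H : Type*} [Group G] [Group H] (e : G ≃* H)
    (h : Good p (Nat.card H)) : Bound p G := by
  have hc := Nat.card_congr e.toEquiv
  unfold Bound
  rw [hc]
  exact ⟨h.1, fun _ => h.2⟩

theorem lie_bound {G : Type*} [Group G] (p : ℕ) (hG : Cfsg.IsLieTypeChar p G) : Bound p G := by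
  rcases hG with h | h | h | h | h | h | h | h | h | h | h
  · -- `PSL_n`
    obtain ⟨F, _, _, _, n, hn, -, ⟨e⟩⟩ := h
    by_cases h3 : 3 ≤ n
    · exact bound_of_good e ⟨psl_bound1 n hn, psl_bound2 n h3⟩
    · have hn2 : n = 2 := by omega
      subst hn2
      have hc := Nat.card_congr e.toEquiv
      unfold Bound
      refine ⟨?_, fun hne => ?_⟩
      · rw [hc]
        exact psl_bound1 2 le_rfl
      · exfalso
        apply hne
        refine ⟨F, inferInstance, inferInstance, ?_, ⟨e⟩⟩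
        rw [hc]
        exact (psl2_fact (p := p) (F := F)).symm
  · -- `PSp_{2m}`
    obtain ⟨F, _, _, _, m, hm, -, ⟨e⟩⟩ := h
    exact bound_of_good e (psp_good m hm)
  · -- `PSU_n`
    obtain ⟨F, _, _, _, n, q, hF, hn, -, ⟨e⟩⟩ := h
    exact bound_of_good e (psu_good n q hF hn)
  · -- `PΩ_{2m+1}`
    obtain ⟨F, _, _, _, m, hm, hodd, ⟨e⟩⟩ := h
    exact bound_of_good e (pomega_odd_good m hm hodd)
  · -- `PΩ⁺_{2m}`
    obtain ⟨F, _, _, _, m, hm, ⟨e⟩⟩ := h
    exact bound_of_good e (pomega_plus_good m hm)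
  · -- `PΩ⁻_{2m}`
    obtain ⟨F, _, _, _, m, a, b, hm, hab, ⟨e⟩⟩ := h
    exact bound_of_good e (pomega_minus_good m hm a b hab)
  · -- exceptional Chevalley groups
    obtain ⟨F, _, _, _, h⟩ := h
    rcases h with ⟨-, ⟨e⟩⟩ | ⟨⟨e⟩⟩ | ⟨⟨e⟩⟩ | ⟨⟨e⟩⟩ | ⟨⟨e⟩⟩
    · exact bound_of_good e g2_good
    · exact bound_of_good e f4_good
    · exact bound_of_good e e6_good
    · exact bound_of_good e e7_good
    · exact bound_of_good e e8_good
  · -- `²E₆`, `³D₄`
    obtain ⟨K, _, _, _, q, hq, h⟩ := h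
    rcases h with ⟨hK, ⟨e⟩⟩ | ⟨hK, ⟨e⟩⟩
    · exact bound_of_good e (twE6_good q hq hK)
    · exact bound_of_good e (twD4_good q hq hK)
  · -- Suzuki groups
    obtain ⟨rfl, F, _, _, m, hm, hF, ⟨e⟩⟩ := h
    exact bound_of_good e (sz_good m hm hF)
  · -- `²F₄`
    obtain ⟨rfl, K, _, _, m, -, hK, ⟨e⟩⟩ := h
    exact bound_of_good e (ree2F4_good m hK)
  · -- `²G₂`
    obtain ⟨rfl, K, _, _, m, -, hK, ⟨e⟩⟩ := h
    exact bound_of_good e (ree_good m hK)

end Cfsg.Agent.Lib.Helper8.LieBound
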