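import Cfsg.Agent.Lib.Helper8.LieBound.ExcG2
import Cfsg.Agent.S1067
import Mathlib

/-!
# The bounds for the twisted groups of type `³D₄` (helper8)
-/

set_option autoImplicit false

namespace Cfsg.Agent.Lib.Helper8.LieBound

theorem d4_le {q : ℕ} (hq : 2 ≤ q) : q ^ 8 + q ^ 4 + 1 ≤ q ^ 9 := by
  have h4 : 2 ≤ q ^ 4 := le_trans hq (Nat.le_self_pow (by norm_num) q)
  have e8 : q ^ 8 = q ^ 4 * q ^ 4 := by ring
  have e9 : q ^ 9 = q * (q ^ 4 * q ^ 4) := by ring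
  rw [e8, e9]
  nlinarith

theorem d4_not_dvd {p j : ℕ} (hp : p.Prime) (hj : 1 ≤ j) :
    ¬ p ∣ (p ^ j) ^ 8 + (p ^ j) ^ 4 + 1 := by
  intro h
  have h1 : p ∣ (p ^ j) ^ 8 + (p ^ j) ^ 4 := by
    apply dvd_add
    · rw [← pow_mul]
      exact dvd_pow_self p (by positivity)
    · rw [← pow_mul]
      exact dvd_pow_self p (by positivity)
  have h3 : p ∣ 1 := (Nat.dvd_add_right h1).1 h
  exact hp.one_lt.ne' (Nat.dvd_one.1 h3)

section

variable {p : ℕ} {K : Type*} [Field K] [Fintype K] [CharP K p]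

theorem twD4_good (q : ℕ) (hq' : IsPrimePow q) (hK : Fintype.card K = q ^ 3) :
    Good p (Nat.card ↥(Cfsg.Lie.twistedD4 K q)) := by
  obtain ⟨hp, e, he, hK'⟩ := card_field p K
  obtain ⟨j, hj, rfl⟩ := pow_of_pow hp (by norm_num : 1 ≤ 3) (hK.symm.trans hK') he
  have hq2 : 2 ≤ p ^ j := two_le_pow hp hj
  have hq : 1 ≤ p ^ j := by omega
  have h := Cfsg.Agent.S1067.result hq' hK
  have h' : 1 * Nat.card ↥(Cfsg.Lie.twistedD4 K (p ^ j))
      = (p ^ j) ^ 12 * (((p ^ j) ^ 8 + (p ^ j) ^ 4 + 1) * (((p ^ j) ^ 6 - 1) *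
        ((p ^ j) ^ 2 - 1))) := by
    rw [one_mul, h]
    ring
  refine good_of (M := 9 + (6 + 2)) hp h' ?_ hp.not_dvd_one ?_ (by norm_num) (by norm_num)
  · exact not_dvd_mul hp (d4_not_dvd hp hj) (not_dvd_mul hp (not_dvd_sub_one hp hj (by norm_num))
      (not_dvd_sub_one hp hj (by norm_num)))
  · exact mul_lt_pow_of_le_lt (d4_le hq2) (mul_lt_pow_of_le_lt (Nat.sub_le _ _)
      (sub_one_lt hq _) hq) hq

end

end Cfsg.Agent.Lib.Helper8.LieBound
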